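import Cfsg.Agent.Spor.ThD.S.D0

set_option autoImplicit false
set_option maxRecDepth 100000000
set_option Elab.async false

namespace Cfsg.Agent.Spor.ThD.S

theorem gr4 : sub M3 (U.growI W2 [2, 3, 4, 5, 5, 4, 3, 1, 2] (Nat.shiftLeft 1 6)) = true := by decide +kernel

theorem sd6 : U.sends [3, 1, 5, 3] 0 6 = true := by decide +kernel

theorem gr7 : sub (ones 819) (U.growI ([3, 1, 5, 3] :: W2) [0, 3, 4, 5, 6, 6, 5, 4, 2, 0, 3, 4, 5, 6, 6, 5, 4, 2, 0, 3, 4, 5, 6, 6, 5, 2] (Nat.shiftLeft 1 0)) = true := by decide +kernel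

theorem gr10 : sub M9 (U.growI W2 [0, 2, 3, 4, 5, 5, 4, 3, 2, 1, 2, 3, 4, 5, 5, 4] (Nat.shiftLeft 1 13)) = true := by decide +kernel

theorem sd12 : U.sends [3, 5, 7, 5, 3] 0 13 = true := by decide +kernel

theorem gr13 : sub (ones 819) (U.growI ([3, 5, 7, 5, 3] :: W2) [0, 1, 3, 4, 5, 6, 6, 5, 4, 3, 2, 0, 1, 3, 4, 5, 6, 6, 5, 4, 3, 2, 3] (Nat.shiftLeft 1 0)) = true := by decide +kernel

theorem gr16 : sub M15 (U.growI W2 [0, 1, 2, 3, 4, 5, 5, 4, 3, 1, 2, 3, 4, 5, 5, 4, 1, 2, 3, 4, 5, 5, 4, 1, 2, 3, 4, 5, 5] (Nat.shiftLeft 1 1)) = true := by decide +kernel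

theorem sd18 : U.sends [3] 0 1 = true := by decide +kernel

theorem gr19 : sub (ones 819) (U.growI ([3] :: W2) [0, 1, 2, 3, 4, 5, 6, 6, 5, 4, 2, 0, 1, 2, 3, 4, 5, 6, 6, 5, 2, 0, 1, 3] (Nat.shiftLeft 1 0)) = true := by decide +kernel

theorem ff21 : U.fixFrom 10 819 1 = true := by decide +kernel

theorem ff22 : U.fixFrom 10 819 3 = true := by decide +kernel

theorem ff23 : U.fixFrom 10 819 5 = true := by decide +kernel

theorem ff24 : U.fixFrom 10 819 7 = true := by decide +kernel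

theorem ff25 : U.fixFrom 10 819 9 = true := by decide +kernel

theorem ff26 : U.fixFrom 10 819 11 = true := by decide +kernel

theorem ff27 : U.fixFrom 10 819 13 = true := by decide +kernel

end Cfsg.Agent.Spor.ThD.S
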